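import Cfsg.Agent.Mult.Fam

set_option autoImplicit false
set_option Elab.async false
set_option maxRecDepth 100000
set_option linter.all false

namespace Cfsg.Agent.S62C
open Cfsg.Agent.CGT

open Cfsg.Agent.Mult

noncomputable def ix : Ix (Fin 3 ⊕ Fin 3) := ⟨Sum.elim (·.1) (3 + ·.1), 6, by decide, by decide, by decide⟩
noncomputable def Es : List (List ℕ × List ℕ × ℕ) := [([0, 0, 0, 1, 0, 0], [0, 0, 0, 0, 0, 0], 1), ([0, 0, 0, 1, 0, 0], [0, 1, 0, 0, 0, 0], 0), ([0, 0, 0, 1, 0, 0], [0, 0, 1, 0, 0, 0], 0), ([0, 0, 0, 1, 0, 0], [0, 0, 0, 0, 1, 0], 0), ([0, 0, 0, 1, 0, 0], [0, 0, 0, 0, 0, 1], 0), ([1, 0, 0, 0, 0, 0], [0, 0, 0, 0, 0, 0], 1), ([1, 0, 0, 0, 0, 0], [0, 1, 0, 0, 0, 0], 0), ([1, 0, 0, 0, 0, 0], [0, 0, 1, 0, 0, 0], 0), ([1, 0, 0, 0, 0, 0], [0, 0, 0, 0, 1, 0], 0), ([1, 0, 0, 0, 0, 0], [0, 0,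 0, 0, 0, 1], 0)]
noncomputable def Bs : List Pl := [[(1, 0), (2, 0), (4, 0), (9, 0), (0x10, 0), (0x20, 0)],
  [(1, 0), (3, 0), (4, 0), (0x18, 0), (0x10, 0), (0x20, 0)],
  [(1, 0), (2, 0), (5, 0), (0x28, 0), (0x10, 0), (0x20, 0)],
  [(1, 0), (2, 0), (4, 0), (0xa, 0), (0x11, 0), (0x20, 0)],
  [(1, 0), (2, 0), (4, 0), (0xc, 0), (0x10, 0), (0x21, 0)],
  [(9, 0), (2, 0), (4, 0), (8, 0), (0x10, 0), (0x20, 0)],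
  [(0x11, 0), (0xa, 0), (4, 0), (8, 0), (0x10, 0), (0x20, 0)],
  [(0x21, 0), (2, 0), (0xc, 0), (8, 0), (0x10, 0), (0x20, 0)],
  [(3, 0), (2, 0), (4, 0), (8, 0), (0x18, 0), (0x20, 0)],
  [(5, 0), (2, 0), (4, 0), (8, 0), (0x10, 0), (0x28, 0)]]
theorem h_base : (kpSp (ZMod 2) 3).Gen kf2 ix [0, 0, 0, 1, 0, 0] [1, 0, 0, 0, 0, 0] Es Bs := by decide +kernel

end Cfsg.Agent.S62C
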