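import Cfsg.Agent.S62C.PresR

set_option autoImplicit false
set_option Elab.async false
set_option maxRecDepth 100000
set_option linter.all false

namespace Cfsg.Agent.S62C
open Cfsg.Agent.CGT

noncomputable def ql0_n0 : Net := Net.cons 32 0x88064800 <|
  Net.cons 16 0x34200004800 <|
  Net.cons 8 0x800a000080010 <|
  Net.cons 4 0x80004000c00 <|
  Net.cons 2 0x2020002000000 <|
  Net.cons 1 0x1010104000001 <|
  Net.cons 2 0x102022002021200 <|
  Net.cons 4 0x40a0004000c04 <|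
  Net.cons 8 0x8800a000080010 <|
  Net.cons 16 0x34200007800 <|
  Net.cons 32 0x88064800 <|
  Net.nil
noncomputable def ql0_n1 : Net := Net.cons 32 0x2589060 <|
  Net.cons 16 0xd080000cd20 <|
  Net.cons 8 0xd000aa002200c4 <|
  Net.cons 4 0x4000004000c0204 <|
  Net.cons 2 0x222 <|
  Net.cons 1 0x500114004040414 <|
  Net.cons 2 0x3002000201301232 <|
  Net.cons 4 0x40008040b090c0a <|
  Net.cons 8 0xd000aa00b7003a <|
  Net.cons 16 0xd0800004570 <|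
  Net.cons 32 0x2589060 <|
  Net.nil
noncomputable def ql0_n2 : Net := Net.cons 32 0x7f214084 <|
  Net.cons 16 0xc88400003940 <|
  Net.cons 8 0x62000000fc000a <|
  Net.cons 4 0x6040806040a0c04 <|
  Net.cons 2 0x2200002202202 <|
  Net.cons 1 0x5051100441104154 <|
  Net.cons 2 0x203202102221102 <|
  Net.cons 4 0x6040806060e0304 <|
  Net.cons 8 0x22004000fc000a <|
  Net.cons 16 0x88cd000039c4 <|
  Net.cons 32 0x7f214084 <|
  Net.nil
noncomputable def ql0_n3 : Net := Net.cons 32 0x435c640 <|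
  Net.cons 16 0x647000004c80 <|
  Net.cons 8 0x26004800140004 <|
  Net.cons 4 0x20008060a0c0802 <|
  Net.cons 2 0x22000000000 <|
  Net.cons 1 0x1000541501400010 <|
  Net.cons 2 0x122111220020300 <|
  Net.cons 4 0x20b09070e0d0802 <|
  Net.cons 8 0x6600b700140024 <|
  Net.cons 16 0x657400004c80 <|
  Net.cons 32 0x435c640 <|
  Net.nil
noncomputable def ql0_n4 : Net := Net.cons 32 0x23004000 <|
  Net.cons 16 0x230000002900 <|
  Net.cons 8 0x7000e8003000a4 <|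
  Net.cons 4 0x408020200000e00 <|
  Net.cons 2 0x220022000002000 <|
  Net.cons 1 0x410014104004040 <|
  Net.cons 2 0x220222000002300 <|
  Net.cons 4 0x40a020a01020e00 <|
  Net.cons 8 0x7000e8003000a4 <|
  Net.cons 16 0x230400002900 <|
  Net.cons 32 0x23004000 <|
  Net.nil
noncomputable def ql0_n5 : Net := Net.cons 32 0x20840000 <|
  Net.cons 16 0x28000000440 <|
  Net.cons 8 0x4008000100008 <|
  Net.cons 4 0x6000a0002000000 <|
  Net.cons 2 0x2000200000000000 <|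
  Net.cons 1 0x4004100050000000 <|
  Net.cons 2 0x2100220031130200 <|
  Net.cons 4 0x6000a0002050002 <|
  Net.cons 8 0x24008200100008 <|
  Net.cons 16 0x28000000c40 <|
  Net.cons 32 0x20840000 <|
  Net.nil
noncomputable def ql0_ns : List Net := [ql0_n0, ql0_n1, ql0_n2, ql0_n3, ql0_n4, ql0_n5]
noncomputable def ql0_R : List (List ℕ) := [[0, 0], [2, 2], [4, 4], [6, 6], [8, 8], [10, 10], [8, 10, 8, 10, 8, 10], [6, 8, 6, 8], [6, 10, 6, 10, 6, 10, 6, 10], [4, 8, 4, 10, 4, 8, 4, 10], [4, 6, 4, 6, 4, 6, 10, 6, 10], [10, 6, 10, 8, 4, 6, 10, 8, 10, 4, 6, 4, 8], [2, 4, 2, 4], [6, 2, 6, 10, 6, 2, 6, 10], [8, 2, 8, 10, 8, 2, 8, 10], [2, 6, 2, 8, 2, 6, 2, 8], [2, 6, 10, 2, 10, 8, 4, 6, 2, 6, 4, 6, 8], [0, 8, 0, 8], [2, 0, 2, 10, 2, 0, 2, 10], [0, 4, 6, 0, 6, 4, 0, 10], [6, 0, 6, 10, 6, 0, 6, 10], [4, 0, 4, 2, 8, 10, 0, 10, 8, 2], [0, 2, 0, 6, 0, 2, 0, 6, 0, 2, 0, 6]]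
noncomputable def ql0_S0 : List (List ℕ) := [[2], [4], [6], [8], [10]]
noncomputable def ql0_E : Enum := ⟨ql0_ns, ql0_R, ql0_S0, [], 0⟩
theorem ql0_v : validAll (2 ^ 6) ql0_ns = true := by decide +kernel
theorem ql0_p0 : holdsB 6 ql0_ns ql0_R = true := by decide +kernel
theorem ql0_p : Holds (lp ql0_ns) ql0_R := holdsB_sound ql0_v ql0_p0
theorem ql0_f : allL ql0_E.Sub (fixN ql0_E.ns ql0_E.b0) = true := by decide +kernel
theorem ql0_r0 : ql0_E.run [2, 0, 10, 4, 18, 8, 26, 12, 34, 16, 42, 20, 2, 0, 10, 4, 18, 8, 26, 12, 34, 16, 42, 20, 2, 0, 10, 4, 26, 12, 28, 48, 4164, 4124, 3, 7, 11, 15, 19, 4164, 4124, 4164, 12348, 12360, 12368, 4124, 12340, 24, 4164, 4124, 12344, 4120, 12360, 8232, 4144, 20564, 20, 4120, 4128, 12324, 12368, 24, 40, 8, 4144, 16428, 32812, 20, 36908, 8, 41004, 49196, 8256, 20, 41024, 4144, 32, 36, 4132, 52, 12, 12344, 4156, 12348, 76, 12364, 28748, 4176, 4124, 4144,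 68, 32, 4128, 12340, 12348, 4168, 8268, 12, 12364, 28748, 12368, 4124, 24, 4128, 12344, 4168, 12360, 12364, 16460, 12, 4176, 12368, 4124, 68, 24, 4124, 4128, 12324, 4152, 12344, 40, 4136, 8232, 16424, 8, 32808, 76, 12364, 4176, 68, 12364, 68, 40, 4180, 12372, 24660, 68, 4164, 4168, 12364, 4164, 12348, 56, 16, 60, 4, 4124, 68, 24, 4164, 36, 60, 4, 28748, 4144, 28748, 84, 8, 4144, 8268, 12368, 32, 36, 4176, 4172, 8, 4132, 4136, 12364, 4180, 24660, 88, 4184, 12376, 28, 4148, 12340, 4152, 60, 12348, 4168, 76, 0, 4172, 80, 12, 12368, 32, 4148, 72, 4172, 8, 4148, 4152, 60, 4144, 36, 56, 4120, 40, 8, 84, 8, 4180, 24660, 72, 4, 4172, 8, 8268, 12, 28748, 12348] (1 <<< 0) (List.replicate 12 0) (Enum.done 63 [0, 2, 4, 6, 8, 10]) = true := by decide +kernel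
theorem ql0_fin {G : Type*} [Group G] {γ : ℕ → G} (hR : Holds (ext γ) ql0_R) {H : Subgroup G}
    (hS : ∀ u ∈ ql0_S0, ev (ext γ) u ∈ H) : ql0_E.Fin γ H 63 [0, 2, 4, 6, 8, 10] :=
  have hy : ql0_E.Hyp γ H := Enum.hyp_of ql0_v hR ql0_p hS ql0_f
  (Enum.fin_of_done hy (Enum.inv_init 12) ql0_r0)
noncomputable def ql1_n1 : Net := Net.cons 16 0xab32 <|
  Net.cons 8 0xe200c2 <|
  Net.cons 4 0xc0e0e04 <|
  Net.cons 2 0x22202 <|
  Net.cons 1 0x51441451 <|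
  Net.cons 2 0x12123220 <|
  Net.cons 4 0x40e0e0c <|
  Net.cons 8 0x3d001d <|
  Net.cons 16 0x54cd <|
  Net.nil
noncomputable def ql1_n2 : Net := Net.cons 16 0x580 <|
  Net.cons 8 0x6004c <|
  Net.cons 4 0xc0a0c <|
  Net.cons 2 0x220 <|
  Net.cons 1 0x1050114 <|
  Net.cons 2 0x10132220 <|
  Net.cons 4 0xc0e0c <|
  Net.cons 8 0x26006c <|
  Net.cons 16 0x580 <|
  Net.nil
noncomputable def ql1_n3 : Net := Net.cons 16 0x6400 <|
  Net.cons 8 0x40 <|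
  Net.cons 4 0x40a0400 <|
  Net.cons 2 0x20202002 <|
  Net.cons 1 0x44114404 <|
  Net.cons 2 0x31312002 <|
  Net.cons 4 0x10a0408 <|
  Net.cons 8 0x7f0050 <|
  Net.cons 16 0x6400 <|
  Net.nil
noncomputable def ql1_n4 : Net := Net.cons 16 0x884 <|
  Net.cons 8 0x220000 <|
  Net.cons 4 0x6080000 <|
  Net.cons 2 0x20000000 <|
  Net.cons 1 0x41040000 <|
  Net.cons 2 0x20000002 <|
  Net.cons 4 0x60a0000 <|
  Net.cons 8 0x2a0044 <|
  Net.cons 16 0x884 <|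
  Net.nil
noncomputable def ql1_n5 : Net := Net.cons 16 0x5320 <|
  Net.cons 8 0x4c0080 <|
  Net.cons 4 0x60e02 <|
  Net.cons 2 0x20000 <|
  Net.cons 1 0x41010 <|
  Net.cons 2 0x3120300 <|
  Net.cons 4 0x60e02 <|
  Net.cons 8 0x4c0080 <|
  Net.cons 16 0x5320 <|
  Net.nil
noncomputable def ql1_ns : List Net := [Net.nil, ql1_n1, ql1_n2, ql1_n3, ql1_n4, ql1_n5]
noncomputable def ql1_R : List (List ℕ) := [[2, 2], [4, 4], [6, 6], [8, 8], [10, 10], [8, 10, 8, 10, 8, 10], [6, 8, 6, 8], [6, 10, 6, 10, 6, 10, 6, 10], [4, 8, 4, 10, 4, 8, 4, 10], [4, 6, 4, 6, 4, 6, 10, 6, 10], [10, 6, 10, 8, 4, 6, 10, 8, 10, 4, 6, 4, 8], [2, 4, 2, 4], [6, 2, 6, 10, 6, 2, 6, 10], [8, 2, 8, 10, 8, 2, 8, 10], [2, 6, 2, 8, 2, 6, 2, 8], [2, 6, 10, 2, 10, 8, 4, 6, 2, 6, 4, 6, 8]]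
noncomputable def ql1_S0 : List (List ℕ) := [[4], [6], [8], [10]]
noncomputable def ql1_E : Enum := ⟨ql1_ns, ql1_R, ql1_S0, [], 0⟩
theorem ql1_v : validAll (2 ^ 5) ql1_ns = true := by decide +kernel
theorem ql1_p0 : holdsB 5 ql1_ns ql1_R = true := by decide +kernel
theorem ql1_p : Holds (lp ql1_ns) ql1_R := holdsB_sound ql1_v ql1_p0
theorem ql1_f : allL ql1_E.Sub (fixN ql1_E.ns ql1_E.b0) = true := by decide +kernel
theorem ql1_r0 : ql1_E.run [10, 0, 26, 8, 34, 12, 42, 16, 10, 0, 18, 4, 26, 8, 34, 12, 42, 16, 10, 0, 24, 44, 3, 7, 11, 15, 4140, 12336, 12340, 4152, 12344, 20, 4120, 4124, 12336, 12340, 4116, 24636, 4, 4140, 4128, 12320, 4132, 8, 16420, 24612, 24, 12336, 12344, 4120, 4136, 8, 32808, 16, 41000, 49192, 60, 8252, 16, 16444, 16, 41020, 4, 4140, 4116, 28, 4124, 48, 8, 4152, 12344, 4120, 4124, 12336, 12340, 36, 4, 16420, 4, 24612, 4140, 4128, 52, 56, 0, 4120, 4144, 4148, 4152,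 12344] (1 <<< 0) (List.replicate 12 0) (Enum.done 32 [2, 4, 6, 8, 10]) = true := by decide +kernel
theorem ql1_fin {G : Type*} [Group G] {γ : ℕ → G} (hR : Holds (ext γ) ql1_R) {H : Subgroup G}
    (hS : ∀ u ∈ ql1_S0, ev (ext γ) u ∈ H) : ql1_E.Fin γ H 32 [2, 4, 6, 8, 10] :=
  have hy : ql1_E.Hyp γ H := Enum.hyp_of ql1_v hR ql1_p hS ql1_f
  (Enum.fin_of_done hy (Enum.inv_init 12) ql1_r0)
noncomputable def ql2_n2 : Net := Net.cons 8 0x70 <|
  Net.cons 1 0x11 <|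
  Net.cons 4 0x708 <|
  Net.cons 8 0x70 <|
  Net.nil
noncomputable def ql2_n3 : Net := Net.cons 8 0x80 <|
  Net.cons 4 0x8 <|
  Net.cons 2 0x2002 <|
  Net.cons 1 0x4104 <|
  Net.cons 2 0x3122 <|
  Net.cons 4 0xf08 <|
  Net.cons 8 0x80 <|
  Net.nil
noncomputable def ql2_n4 : Net := Net.cons 8 0x80 <|
  Net.cons 4 0x4 <|
  Net.cons 2 0x2020 <|
  Net.cons 1 0x1440 <|
  Net.cons 2 0x2022 <|
  Net.cons 4 0x4 <|
  Net.cons 8 0x80 <|
  Net.nil
noncomputable def ql2_n5 : Net := Net.cons 4 0x2 <|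
  Net.cons 1 0x10 <|
  Net.cons 2 0x200 <|
  Net.cons 4 0x106 <|
  Net.nil
noncomputable def ql2_ns : List Net := [Net.nil, Net.nil, ql2_n2, ql2_n3, ql2_n4, ql2_n5]
noncomputable def ql2_R : List (List ℕ) := [[4, 4], [6, 6], [8, 8], [10, 10], [8, 10, 8, 10, 8, 10], [6, 8, 6, 8], [6, 10, 6, 10, 6, 10, 6, 10], [4, 8, 4, 10, 4, 8, 4, 10], [4, 6, 4, 6, 4, 6, 10, 6, 10], [10, 6, 10, 8, 4, 6, 10, 8, 10, 4, 6, 4, 8]]
noncomputable def ql2_S0 : List (List ℕ) := [[6], [8], [10]]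
noncomputable def ql2_E : Enum := ⟨ql2_ns, ql2_R, ql2_S0, [], 0⟩
theorem ql2_v : validAll (2 ^ 4) ql2_ns = true := by decide +kernel
theorem ql2_p0 : holdsB 4 ql2_ns ql2_R = true := by decide +kernel
theorem ql2_p : Holds (lp ql2_ns) ql2_R := holdsB_sound ql2_v ql2_p0
theorem ql2_f : allL ql2_E.Sub (fixN ql2_E.ns ql2_E.b0) = true := by decide +kernel
theorem ql2_r0 : ql2_E.run [18, 0, 26, 4, 34, 8, 42, 12, 18, 0, 26, 4, 20, 3, 7, 11, 4124, 12316, 4116, 8224, 28704, 8224, 28708, 4112, 8228, 28708, 8224, 24608, 12, 32800, 4124, 4116, 12316, 24608, 12, 32800, 16, 4116] (1 <<< 0) (List.replicate 12 0) (Enum.done 15 [4, 6, 8, 10]) = true := by decide +kernel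
theorem ql2_fin {G : Type*} [Group G] {γ : ℕ → G} (hR : Holds (ext γ) ql2_R) {H : Subgroup G}
    (hS : ∀ u ∈ ql2_S0, ev (ext γ) u ∈ H) : ql2_E.Fin γ H 15 [4, 6, 8, 10] :=
  have hy : ql2_E.Hyp γ H := Enum.hyp_of ql2_v hR ql2_p hS ql2_f
  (Enum.fin_of_done hy (Enum.inv_init 12) ql2_r0)
noncomputable def ql3_n3 : Net := Net.cons 1 0x55 <|
  Net.nil
noncomputable def ql3_n4 : Net := Net.cons 4 0xc <|
  Net.cons 2 0x30 <|
  Net.cons 4 0xc <|
  Net.nil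
noncomputable def ql3_n5 : Net := Net.cons 2 0x22 <|
  Net.cons 1 0x44 <|
  Net.cons 2 0x22 <|
  Net.nil
noncomputable def ql3_ns : List Net := [Net.nil, Net.nil, Net.nil, ql3_n3, ql3_n4, ql3_n5]
noncomputable def ql3_R : List (List ℕ) := [[6, 6], [8, 8], [10, 10], [8, 10, 8, 10, 8, 10], [6, 8, 6, 8], [6, 10, 6, 10, 6, 10, 6, 10]]
noncomputable def ql3_S0 : List (List ℕ) := [[8], [10]]
noncomputable def ql3_E : Enum := ⟨ql3_ns, ql3_R, ql3_S0, [], 0⟩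
theorem ql3_v : validAll (2 ^ 3) ql3_ns = true := by decide +kernel
theorem ql3_p0 : holdsB 3 ql3_ns ql3_R = true := by decide +kernel
theorem ql3_p : Holds (lp ql3_ns) ql3_R := holdsB_sound ql3_v ql3_p0
theorem ql3_f : allL ql3_E.Sub (fixN ql3_E.ns ql3_E.b0) = true := by decide +kernel
theorem ql3_r0 : ql3_E.run [26, 0, 42, 8, 26, 0, 34, 4, 42, 8, 26, 0, 16, 3, 7, 4112, 4108, 4116, 12, 4112] (1 <<< 0) (List.replicate 12 0) (Enum.done 8 [6, 8, 10]) = true := by decide +kernel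
theorem ql3_fin {G : Type*} [Group G] {γ : ℕ → G} (hR : Holds (ext γ) ql3_R) {H : Subgroup G}
    (hS : ∀ u ∈ ql3_S0, ev (ext γ) u ∈ H) : ql3_E.Fin γ H 8 [6, 8, 10] :=
  have hy : ql3_E.Hyp γ H := Enum.hyp_of ql3_v hR ql3_p hS ql3_f
  (Enum.fin_of_done hy (Enum.inv_init 12) ql3_r0)
noncomputable def ql4_n4 : Net := Net.cons 1 0x1 <|
  Net.nil
noncomputable def ql4_n5 : Net := Net.cons 2 0x2 <|
  Net.cons 1 0x4 <|
  Net.cons 2 0x2 <|
  Net.nil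
noncomputable def ql4_ns : List Net := [Net.nil, Net.nil, Net.nil, Net.nil, ql4_n4, ql4_n5]
noncomputable def ql4_R : List (List ℕ) := [[8, 8], [10, 10], [8, 10, 8, 10, 8, 10]]
noncomputable def ql4_S0 : List (List ℕ) := [[10]]
noncomputable def ql4_E : Enum := ⟨ql4_ns, ql4_R, ql4_S0, [], 0⟩
theorem ql4_v : validAll (2 ^ 3) ql4_ns = true := by decide +kernel
theorem ql4_p0 : holdsB 3 ql4_ns ql4_R = true := by decide +kernel
theorem ql4_p : Holds (lp ql4_ns) ql4_R := holdsB_sound ql4_v ql4_p0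
theorem ql4_f : allL ql4_E.Sub (fixN ql4_E.ns ql4_E.b0) = true := by decide +kernel
theorem ql4_r0 : ql4_E.run [34, 0, 42, 4, 3, 8] (1 <<< 0) (List.replicate 12 0) (Enum.done 3 [8, 10]) = true := by decide +kernel
theorem ql4_fin {G : Type*} [Group G] {γ : ℕ → G} (hR : Holds (ext γ) ql4_R) {H : Subgroup G}
    (hS : ∀ u ∈ ql4_S0, ev (ext γ) u ∈ H) : ql4_E.Fin γ H 3 [8, 10] :=
  have hy : ql4_E.Hyp γ H := Enum.hyp_of ql4_v hR ql4_p hS ql4_f
  (Enum.fin_of_done hy (Enum.inv_init 12) ql4_r0)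
noncomputable def ql5_n5 : Net := Net.cons 1 0x1 <|
  Net.nil
noncomputable def ql5_ns : List Net := [Net.nil, Net.nil, Net.nil, Net.nil, Net.nil, ql5_n5]
noncomputable def ql5_R : List (List ℕ) := [[10, 10]]
noncomputable def ql5_S0 : List (List ℕ) := []
noncomputable def ql5_E : Enum := ⟨ql5_ns, ql5_R, ql5_S0, [], 0⟩
theorem ql5_v : validAll (2 ^ 3) ql5_ns = true := by decide +kernel
theorem ql5_p0 : holdsB 3 ql5_ns ql5_R = true := by decide +kernel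
theorem ql5_p : Holds (lp ql5_ns) ql5_R := holdsB_sound ql5_v ql5_p0
theorem ql5_f : allL ql5_E.Sub (fixN ql5_E.ns ql5_E.b0) = true := by decide +kernel
theorem ql5_r0 : ql5_E.run [42, 0] (1 <<< 0) (List.replicate 12 0) (Enum.done 2 [10]) = true := by decide +kernel
theorem ql5_fin {G : Type*} [Group G] {γ : ℕ → G} (hR : Holds (ext γ) ql5_R) {H : Subgroup G}
    (hS : ∀ u ∈ ql5_S0, ev (ext γ) u ∈ H) : ql5_E.Fin γ H 2 [10] :=
  have hy : ql5_E.Hyp γ H := Enum.hyp_of ql5_v hR ql5_p hS ql5_f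
  (Enum.fin_of_done hy (Enum.inv_init 12) ql5_r0)
theorem qbd5 {G : Type*} [Group G] {γ : ℕ → G} (hR : Holds (ext γ) qRR) : Bd (gp γ [10]) 2 :=
  Bd.step (ql5_fin (hR.subR (by decide +kernel)) (wordsIn_sound γ (L := []) (by decide +kernel))) (Bd.gp_nil γ) (by norm_num)
theorem qbd4 {G : Type*} [Group G] {γ : ℕ → G} (hR : Holds (ext γ) qRR) : Bd (gp γ [8, 10]) 6 :=
  Bd.step (ql4_fin (hR.subR (by decide +kernel)) (wordsIn_sound γ (L := [10]) (by decide +kernel))) (qbd5 hR) (by norm_num)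
theorem qbd3 {G : Type*} [Group G] {γ : ℕ → G} (hR : Holds (ext γ) qRR) : Bd (gp γ [6, 8, 10]) 48 :=
  Bd.step (ql3_fin (hR.subR (by decide +kernel)) (wordsIn_sound γ (L := [8, 10]) (by decide +kernel))) (qbd4 hR) (by norm_num)
theorem qbd2 {G : Type*} [Group G] {γ : ℕ → G} (hR : Holds (ext γ) qRR) : Bd (gp γ [4, 6, 8, 10]) 720 :=
  Bd.step (ql2_fin (hR.subR (by decide +kernel)) (wordsIn_sound γ (L := [6, 8, 10]) (by decide +kernel))) (qbd3 hR) (by norm_num)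
theorem qbd1 {G : Type*} [Group G] {γ : ℕ → G} (hR : Holds (ext γ) qRR) : Bd (gp γ [2, 4, 6, 8, 10]) 23040 :=
  Bd.step (ql1_fin (hR.subR (by decide +kernel)) (wordsIn_sound γ (L := [4, 6, 8, 10]) (by decide +kernel))) (qbd2 hR) (by norm_num)
theorem qbd0 {G : Type*} [Group G] {γ : ℕ → G} (hR : Holds (ext γ) qRR) : Bd (gp γ [0, 2, 4, 6, 8, 10]) 1451520 :=
  Bd.step (ql0_fin (hR.subR (by decide +kernel)) (wordsIn_sound γ (L := [2, 4, 6, 8, 10]) (by decide +kernel))) (qbd1 hR) (by norm_num)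

end Cfsg.Agent.S62C
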