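import Cfsg.Agent.CGT.Act

set_option autoImplicit false
set_option Elab.async false
set_option maxRecDepth 100000
set_option linter.all false

namespace Cfsg.Agent.S62C
open Cfsg.Agent.CGT

noncomputable def m_n0 : Net := Net.cons 32 0x3fff8000 <|
  Net.cons 8 0x38003800380038 <|
  Net.cons 1 0x1104510444510451 <|
  Net.cons 4 0x300030000030003 <|
  Net.cons 8 0x38003800380038 <|
  Net.cons 16 0xb34000034cb <|
  Net.cons 32 0x3fff8000 <|
  Net.nil
noncomputable def m_n1 : Net := Net.cons 4 0x808080808080808 <|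
  Net.cons 2 0x3030303030303030 <|
  Net.cons 4 0x808080808080808 <|
  Net.cons 8 0x78007800780078 <|
  Net.cons 32 0x2aaad555 <|
  Net.nil
noncomputable def m_n2 : Net := Net.cons 16 0x800000008000 <|
  Net.cons 2 0x2222111122221111 <|
  Net.cons 4 0xa0a00000a0a0000 <|
  Net.cons 8 0x7d0000007d0000 <|
  Net.cons 16 0x800000008000 <|
  Net.nil
noncomputable def m_n3 : Net := Net.cons 16 0x800000008000 <|
  Net.cons 8 0x80008000800080 <|
  Net.cons 2 0x2222222222222222 <|
  Net.cons 1 0x1111444411114444 <|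
  Net.cons 2 0x1122112211221122 <|
  Net.cons 4 0xc090a000c090a00 <|
  Net.cons 8 0x80008000800080 <|
  Net.cons 16 0xff800000ff80 <|
  Net.nil
noncomputable def m_n4 : Net := Net.cons 16 0x666400006664 <|
  Net.cons 8 0x80008000800080 <|
  Net.cons 4 0x8000800080008 <|
  Net.cons 2 0x3331000233310002 <|
  Net.cons 4 0xa0800080a080008 <|
  Net.cons 8 0x80008000800080 <|
  Net.cons 16 0x666400006664 <|
  Net.nil
noncomputable def m_n5 : Net := Net.cons 16 0x666600006666 <|
  Net.nil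
noncomputable def m_ns : List Net := [m_n0, m_n1, m_n2, m_n3, m_n4, m_n5]
noncomputable def m_R : List (List ℕ) := [[0, 0], [2, 2], [4, 4], [6, 6], [8, 8], [10, 10]]
noncomputable def m_t0 : Tab := (.leaf 0xffe001ec3e78187d742b230dbcfb6c4aa5159e66198db86079f75c89a9255d6a294eb450b8ec312f3248db7144e82f3d)
noncomputable def m_t2 : Tab := (.leaf 0xff44f657a6785fc6fe7724703c48c694aa489ccaceb428407d4cd6d5ae58ddcedef52c50be40e616a2681ec2ee362060)
noncomputable def m_t4 : Tab := (.leaf 0xff6cf4d72bf0c7eefcf7adf8e6cb6eae8a6a9e49668e08627d64d45523d045e6dc75a5d864c34e2c824a1c41460c0042)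
noncomputable def m_t6 : Tab := (.leaf 0xfecaedba89e9ab6d73d32c6fc3bf3ef77e3ae659a48e18a07cc2cd3881c929655351244f41b71e75761a6451840c1080)
noncomputable def m_t8 : Tab := (.leaf 0xffef6eb7ae6aa76d66972c6287ceecaf8de89f4ce48f0be07de74e35a64a25654615244205c6cc2d85c81d44c40d03c0)
noncomputable def m_t10 : Tab := (.leaf 0xfeeb7ceeaa78de6974ce2870bfef6cafae689f6d648f2c607ce35c6ca2585c61544c20503de74c2da6481d65440d2440)
noncomputable def m_ts : List Tab := [m_t0, m_t0, m_t2, m_t2, m_t4, m_t4, m_t6, m_t6, m_t8, m_t8, m_t10, m_t10]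
theorem m_v : validAll (2 ^ 6) m_ns = true := by decide +kernel
theorem m_p : Holds (lp m_ns) m_R := holdsB_sound m_v (by decide +kernel)
theorem m_t0_b : Tab.beq (mkTab 6 0 m_ns 0) m_t0 = true := by decide +kernel
theorem m_t2_b : Tab.beq (mkTab 6 0 m_ns 2) m_t2 = true := by decide +kernel
theorem m_t4_b : Tab.beq (mkTab 6 0 m_ns 4) m_t4 = true := by decide +kernel
theorem m_t6_b : Tab.beq (mkTab 6 0 m_ns 6) m_t6 = true := by decide +kernel
theorem m_t8_b : Tab.beq (mkTab 6 0 m_ns 8) m_t8 = true := by decide +kernel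
theorem m_t10_b : Tab.beq (mkTab 6 0 m_ns 10) m_t10 = true := by decide +kernel
theorem m_ts_ok : TabsOK 6 (lp m_ns) m_ts :=
  TabsFrom.ok ⟨TabOK.of_beq m_v m_t0_b,
    TabOK.next (j := 0) (TabOK.of_beq m_v m_t0_b) m_p (by decide +kernel),
    TabOK.of_beq m_v m_t2_b,
    TabOK.next (j := 1) (TabOK.of_beq m_v m_t2_b) m_p (by decide +kernel),
    TabOK.of_beq m_v m_t4_b,
    TabOK.next (j := 2) (TabOK.of_beq m_v m_t4_b) m_p (by decide +kernel),
    TabOK.of_beq m_v m_t6_b,
    TabOK.next (j := 3) (TabOK.of_beq m_v m_t6_b) m_p (by decide +kernel),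
    TabOK.of_beq m_v m_t8_b,
    TabOK.next (j := 4) (TabOK.of_beq m_v m_t8_b) m_p (by decide +kernel),
    TabOK.of_beq m_v m_t10_b,
    TabOK.next (j := 5) (TabOK.of_beq m_v m_t10_b) m_p (by decide +kernel),
    Nat.le_of_ble_eq_true (by decide +kernel)⟩

end Cfsg.Agent.S62C
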